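import Groth.Agent.H29CurveDual.Semistable
import Groth.Agent.H29RR.SmoothRegular
import Groth.Agent.H16Derived.KFlat.SheafTri
import Groth.Agent.H25Par.CurveLocFree

/-!
# Twists of nef bundles on a curve are globally generated
-/

set_option autoImplicit false
set_option linter.style.haveILetI false

universe u

open CategoryTheory CategoryTheory.Limits AlgebraicGeometry TopologicalSpace Opposite
open Groth.Agent.H29RR

noncomputable section

namespace Groth.Agent.H23Nef

attribute [local instance 10000] H10Coh.hasSheafifyAb H10Coh.hasWeakSheafifyAb H10Coh.hasExtAb H10Coh.enoughInjAb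

variable {k : Type u} [Field k] {X : Scheme.{u}} [X.Over (Spec (CommRingCat.of k))] [IsIntegral X]
  [IsProper (X ↘ Spec (CommRingCat.of k))] [Smooth (X ↘ Spec (CommRingCat.of k))]

/-- Invertible quotients have non-negative degree. -/
def QuotNonneg (k : Type u) [Field k] [X.Over (Spec (CommRingCat.of k))] (E : X.Modules) : Prop :=
  ∀ M : X.Modules, PicF.IsInvertible M → ∀ q : E ⟶ M, Epi q → 0 ≤ Curv2.deg k X M 1

/-- Twists of degree beyond the canonical one have no higher cohomology. -/
theorem subsingleton_h1 (hdim : topologicalKrullDim X = 1) {n : ℕ} {E M : X.Modules}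
    (hE : FlatMod.IsFinLocFreeOfRank n E) (hnef : QuotNonneg k E) (hM : PicF.IsInvertible M)
    (hd : Curv2.deg k X (Omega.sheaf (X ↘ Spec (CommRingCat.of k))) 1 < Curv2.deg k X M 1) :
    Subsingleton (Coh.HH X (CohB1.tensorMod E M) 1) := by
  haveI := isNoetherian_of_proper (k := k) (X := X)
  have hEM := rank_tensor hE hM
  refine H29CurveDual.subsingleton_h1_of_hom_eq_zero (k := k) hdim (isCoh_of_rank hEM) fun f => by_contra fun hf => ?_
  have hΩ := H29CurveDual.isInvertible_omega_curve (k := k) (X := X) hdim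
  obtain ⟨a, r, hK, hG, har, hr1, hr0, -, -⟩ :=
    exists_image_data (k := k) hdim.le hEM (rank_one_of_isInvertible hΩ) f
  obtain rfl : r = 1 := by have := hr0 hf; omega
  have hGi := H22Alg.PB.isInvertible_of_rank_one hG
  have hne : Abelian.image.ι f ≠ 0 := fun h => hf (by rw [← Abelian.image.fac f, h, comp_zero])
  have h1 := (deg_le_of_ne_zero (k := k) hdim.le hGi hΩ hne).1
  obtain ⟨N, hN, ⟨e⟩⟩ := H11Sym.exists_inverse hM
  haveI := H16Derived.KFlat.Stalk.preservesColimits_tensorRightMod N
  haveI := preservesColimitsOfSize_shrink.{0, u, 0, u} (DCoh.tensorRightMod N)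
  let b : E ≅ CohB1.tensorMod (CohB1.tensorMod E M) N :=
    (H10Coh.Tw.assoc E M N ≪≫ PicGrp.tensorModIso (Iso.refl E) (H10Coh.Tw.commIso M N ≪≫ e) ≪≫
      H10Coh.Tw.rightUnitIso E).symm
  let p : CohB1.tensorMod (CohB1.tensorMod E M) N ⟶ CohB1.tensorMod (Abelian.image f) N :=
    (DCoh.tensorRightMod N).map (Abelian.factorThruImage f)
  haveI : Epi p := inferInstanceAs (Epi ((DCoh.tensorRightMod N).map (Abelian.factorThruImage f)))
  have h2 := hnef _ (H11Ample.isInvertible_tensor hGi hN) (b.hom ≫ p) (epi_comp _ _)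
  have h3 := deg_tensor (k := k) hdim.le hGi hN
  have h4 := deg_tensor (k := k) hdim.le hN hM
  rw [deg_congr (k := k) e, deg_structureModule] at h4
  omega

/-- Twists of large degree of a nef bundle are generated. -/
theorem isGloballyGenerated [IsAlgClosed k] (hdim : topologicalKrullDim X = 1) {n : ℕ} {E H : X.Modules}
    (hE : FlatMod.IsFinLocFreeOfRank n E) (hnef : QuotNonneg k E) (hH : PicF.IsInvertible H)
    (hd : Curv2.deg k X (Omega.sheaf (X ↘ Spec (CommRingCat.of k))) 1 + 1 < Curv2.deg k X H 1) :
    Curv2.IsGloballyGenerated (CohB1.tensorMod E H) := by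
  haveI := isNoetherian_of_proper (k := k) (X := X)
  refine H29CurveDual.isGloballyGenerated_of_h1 (k := k) hdim (rank_tensor hE hH)
    (subsingleton_h1 hdim hE hnef hH (by omega)) fun M hM hdM => ?_
  have h := subsingleton_h1 (k := k) hdim hE hnef (H11Ample.isInvertible_tensor hH hM)
    (by rw [deg_tensor (k := k) hdim.le hH hM, hdM]; omega)
  exact H10Coh.subsingleton_HH_of_iso (H10Coh.Tw.assoc E H M).symm 1 h

/-- The degree of the canonical module is at most `2g - 2`. -/
theorem deg_omega_le (hdim : topologicalKrullDim X = 1) :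
    Curv2.deg k X (Omega.sheaf (X ↘ Spec (CommRingCat.of k))) 1 ≤ 2 * (Curv2.genus k X : ℤ) - 2 := by
  haveI := isNoetherian_of_proper (k := k) (X := X)
  haveI := H10Coh.finite_HH_proper k X (Coh.structureModule X) (H10Coh.isCoh_structureModule' X) 0
  haveI : Nontrivial Γ(Coh.structureModule X, ⊤) := inferInstanceAs (Nontrivial Γ(X, ⊤))
  haveI : Nontrivial (Coh.HH X (Coh.structureModule X) 0) :=
    (H29RR.sec (Coh.structureModule X)).toEquiv.nontrivial
  have h0 : 0 < Module.finrank k (Coh.HH X (Coh.structureModule X) 0) := Module.finrank_pos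
  rw [H29CurveDual.deg_omega hdim]
  omega

end Groth.Agent.H23Nef
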